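import Mathlib
import Cfsg.Agent.Lib.CGT.Net

/-!
Coordinates in an extraspecial group of order 2^25 with a hyperbolic basis; elements with symbolic signs.
-/

set_option autoImplicit false
set_option maxRecDepth 100000

namespace H77.YM

open H54 Finset

/-- the parity table -/
def TM : ℕ := 0x6996966996696996966969966996966996696996699696696996966996696996966969966996966969969669966969966996966996696996966969966996966996696996699696696996966996696996699696699669699696696996699696696996966996696996966969966996966996696996699696696996966996696996966969966996966969969669966969966996966996696996966969966996966969969669966969969669699669969669966969966996966969969669966969966996966996696996966969966996966996696996699696696996966996696996966969966996966969969669966969966996966996696996966969966996966996696996699696696996966996696996699696699669699696696996699696696996966996696996966969966996966996696996699696696996966996696996699696699669699696696996699696699669699669969669699696699669699696696996699696696996966996696996699696699669699696696996699696696996966996696996966969966996966996696996699696696996966996696996966969966996966969969669966969966996966996696996966969966996966996696996699696696996966996696996699696699669699696696996699696696996966996696996966969966996966996696996699696696996966996696996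

def par (x : ℕ) : ℕ := Nat.land (Nat.shiftRight TM x) 1

def bt (m i : ℕ) : ZMod 2 := if m.testBit i then 1 else 0

theorem z2 (a : ZMod 2) : a = 0 ∨ a = 1 := by revert a; decide
theorem z2_add (a : ZMod 2) : a + a = 0 := by revert a; decide

theorem bt_xor (a b i : ℕ) : bt (a ^^^ b) i = bt a i + bt b i := by
  unfold bt; rw [Nat.testBit_xor]
  cases a.testBit i <;> cases b.testBit i <;> decide

theorem bt_and (a b i : ℕ) : bt (a &&& b) i = bt a i * bt b i := by
  unfold bt; rw [Nat.testBit_and]
  cases a.testBit i <;> cases b.testBit i <;> decide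

theorem bt_shr (a k i : ℕ) : bt (a >>> k) i = bt a (k + i) := by
  unfold bt; rw [Nat.testBit_shiftRight]

theorem bt_zero (i : ℕ) : bt 0 i = 0 := by simp [bt]

theorem bt_pow (k i : ℕ) : bt (2 ^ k) i = if k = i then 1 else 0 := by
  unfold bt; rw [Nat.testBit_two_pow]; simp

theorem bt_eq_zero {m i : ℕ} : bt m i = 0 ↔ m.testBit i = false := by
  unfold bt; cases m.testBit i <;> simp

noncomputable def ps (x n : ℕ) : ℕ :=
  Nat.rec 0 (fun i ih => Nat.add ih (Nat.land (Nat.shiftRight x i) 1)) n

theorem ps_spec (x n : ℕ) : (ps x n : ZMod 2) = ∑ j ∈ range n, bt x j := by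
  induction n with
  | zero => simp [ps]
  | succ n ih =>
    have : ps x (n + 1) = ps x n + ((x >>> n) &&& 1) := rfl
    rw [this, sum_range_succ, Nat.cast_add, ih, Nat.and_one_is_mod, bt,
      Nat.testBit_eq_decide_div_mod_eq, Nat.shiftRight_eq_div_pow]
    rcases Nat.mod_two_eq_zero_or_one (x / 2 ^ n) with h | h <;> simp [h]

theorem par_chk : allLt (fun x => Nat.beq (par x) (Nat.mod (ps x 12) 2)) 4096 = true := by
  decide +kernel

theorem par_spec {x : ℕ} (h : x < 4096) : (par x : ZMod 2) = ∑ j ∈ range 12, bt x j := by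
  have := Nat.eq_of_beq_eq_true ((allLt_iff _ _).1 par_chk x h)
  rw [this, ← ps_spec]
  exact ZMod.natCast_mod _ 2

theorem par_le (x : ℕ) : par x = 0 ∨ par x = 1 := by
  have : par x = (TM >>> x) % 2 := Nat.and_one_is_mod _
  omega

theorem land_lt (x : ℕ) : Nat.land x 4095 < 4096 := Nat.lt_succ_of_le Nat.and_le_right

theorem par_land (x : ℕ) : (par (Nat.land x 4095) : ZMod 2) = ∑ j ∈ range 12, bt x j := by
  rw [par_spec (land_lt x)]
  refine sum_congr rfl fun j hj => ?_
  have : bt 4095 j = 1 := by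
    have := mem_range.1 hj
    interval_cases j <;> decide
  rw [show Nat.land x 4095 = x &&& 4095 from rfl, bt_and, this, mul_one]

/-- the cocycle -/
def be (A B : ℕ) : ℕ := par (Nat.land (Nat.land (Nat.shiftRight A 12) B) 4095)

theorem be_spec (A B : ℕ) : (be A B : ZMod 2) = ∑ j ∈ range 12, bt A (12 + j) * bt B j := by
  unfold be
  rw [par_land]
  exact sum_congr rfl fun j _ => by
    rw [show Nat.land (Nat.shiftRight A 12) B = (A >>> 12) &&& B from rfl, bt_and, bt_shr]

/-- the symplectic form -/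
def bf (A B : ℕ) : ℕ := Nat.xor (be A B) (be B A)

theorem be_le (A B : ℕ) : be A B = 0 ∨ be A B = 1 := par_le _

theorem bf_le (A B : ℕ) : bf A B = 0 ∨ bf A B = 1 := by
  unfold bf
  rcases be_le A B with h | h <;> rcases be_le B A with h' | h' <;> rw [h, h'] <;> decide

theorem bf_cast (A B : ℕ) : (bf A B : ZMod 2) = be A B + be B A := by
  unfold bf
  rcases be_le A B with h | h <;> rcases be_le B A with h' | h' <;> rw [h, h'] <;> decide

theorem bf_xor (A A' B : ℕ) : (bf (A ^^^ A') B : ZMod 2) = bf A B + bf A' B := by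
  simp only [bf_cast, be_spec, bt_xor, add_mul, mul_add, sum_add_distrib]; ring

theorem bf_zero (B : ℕ) : (bf 0 B : ZMod 2) = 0 := by
  simp [bf_cast, be_spec, bt_zero]

/-- the dual index -/
def du (i : ℕ) : ℕ := if i < 12 then i + 12 else i - 12

theorem bf_pow (m : ℕ) {i : ℕ} (hi : i < 24) : (bf m (2 ^ i) : ZMod 2) = bt m (du i) := by
  simp only [bf_cast, be_spec, bt_pow]
  interval_cases i <;> simp [sum_range_succ, du]

def Bf (i j : ℕ) : ZMod 2 := if i = j + 12 ∨ j = i + 12 then 1 else 0

theorem cocyc (a b : ℕ) :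
    ∑ i ∈ range 24, bt a i * ∑ j ∈ range i, bt b j * Bf i j = (be a b : ZMod 2) := by
  rw [be_spec]
  simp [sum_range_succ, Bf]

attribute [irreducible] par be bf

/-- value of an affine form -/
def val (ρ : ℕ → ZMod 2) (f : ℕ) : ZMod 2 := ∑ i ∈ range 320, bt f i * ρ i

theorem val_xor (ρ : ℕ → ZMod 2) (f g : ℕ) : val ρ (f ^^^ g) = val ρ f + val ρ g := by
  simp only [val, bt_xor, add_mul, sum_add_distrib]

theorem val_zero (ρ : ℕ → ZMod 2) : val ρ 0 = 0 := by simp [val, bt_zero]

theorem val_pow (ρ : ℕ → ZMod 2) {k : ℕ} (hk : k < 320) : val ρ (2 ^ k) = ρ k := by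
  simp only [val, bt_pow, ite_mul, one_mul, zero_mul]
  rw [sum_ite_eq, if_pos (mem_range.2 hk)]

theorem val_bit {ρ : ℕ → ZMod 2} (h : ρ 0 = 1) {c : ℕ} (hc : c = 0 ∨ c = 1) : val ρ c = c := by
  rcases hc with rfl | rfl
  · rw [val_zero]; rfl
  · rw [show (1 : ℕ) = 2 ^ 0 from rfl, val_pow ρ (by norm_num), h]; rfl

def emul (A B : ℕ) : ℕ := Nat.xor (Nat.xor A B) (Nat.shiftLeft (be A B) 24)

theorem shl_shr (c : ℕ) : (c <<< 24) >>> 24 = c := Nat.shiftLeft_shiftRight c 24

theorem testBit_shl {c i : ℕ} (hi : i < 24) : (c <<< 24).testBit i = false := by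
  rw [Nat.testBit_shiftLeft]; simp; omega

variable {G : Type*} [Group G]

def zp (z : G) (s : ZMod 2) : G := if s = 0 then 1 else z

@[simp] theorem zp_zero (z : G) : zp z 0 = 1 := if_pos rfl
@[simp] theorem zp_one (z : G) : zp z 1 = z := if_neg (by decide)

theorem zp_comm {z x : G} (h : x * z = z * x) (s : ZMod 2) : x * zp z s = zp z s * x := by
  rcases z2 s with rfl | rfl <;> simp [h]

theorem zp_add {z : G} (h : z * z = 1) (s t : ZMod 2) : zp z (s + t) = zp z s * zp z t := by
  rcases z2 s with rfl | rfl <;> rcases z2 t with rfl | rfl <;> simp [z2_add, h]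

theorem zp_inj {z : G} (h : z ≠ 1) {s t : ZMod 2} (e : zp z s = zp z t) : s = t := by
  rcases z2 s with rfl | rfl <;> rcases z2 t with rfl | rfl <;> simp_all [eq_comm]

/-- ordered product of the selected generators -/
def EL (q : ℕ → G) : List ℕ → ℕ → G
  | [], _ => 1
  | i :: L, m => (if m.testBit 0 then q i else 1) * EL q L (m >>> 1)

theorem EL_snoc (q : ℕ → G) (i : ℕ) : ∀ (L : List ℕ) (m : ℕ),
    EL q (L ++ [i]) m = EL q L m * (if m.testBit L.length then q i else 1)
  | [], m => by simp [EL]
  | j :: L, m => by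
    rw [List.cons_append, EL, EL, EL_snoc q i L, Nat.testBit_shiftRight, List.length_cons,
      add_comm 1, mul_assoc]

def E (q : ℕ → G) (n m : ℕ) : G := EL q (List.range n) m

theorem E_zero (q : ℕ → G) (m : ℕ) : E q 0 m = 1 := rfl

theorem E_succ (q : ℕ → G) (n m : ℕ) :
    E q (n + 1) m = E q n m * (if m.testBit n then q n else 1) := by
  unfold E; rw [List.range_succ, EL_snoc, List.length_range]

theorem E_congr (q : ℕ → G) {n a b : ℕ} (h : ∀ i < n, a.testBit i = b.testBit i) :
    E q n a = E q n b := by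
  induction n with
  | zero => rfl
  | succ n ih => rw [E_succ, E_succ, ih fun i hi => h i (by omega), h n (by omega)]

theorem E_nil (q : ℕ → G) (n : ℕ) : E q n 0 = 1 := by
  induction n with
  | zero => rfl
  | succ n ih => rw [E_succ, ih]; simp

theorem E_pow (q : ℕ → G) (i n : ℕ) : E q n (2 ^ i) = if i < n then q i else 1 := by
  induction n with
  | zero => rfl
  | succ n ih =>
    rw [E_succ, ih, Nat.testBit_two_pow]
    rcases lt_trichotomy i n with h | rfl | h
    · simp [h, h.ne, Nat.lt_succ_of_lt h]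
    · simp
    · simp [h.ne', not_lt.2 h.le, not_lt.2 (Nat.succ_le_of_lt h)]

theorem E_ind (q : ℕ → G) {P : G → Prop} (h1 : P 1) (hm : ∀ a b, P a → P b → P (a * b)) {n m : ℕ}
    (h : ∀ i < n, m.testBit i = true → P (q i)) : P (E q n m) := by
  induction n with
  | zero => exact h1
  | succ n ih =>
    rw [E_succ]
    refine hm _ _ (ih fun i hi => h i (by omega)) ?_
    split_ifs with c
    exacts [h n (by omega) c, h1]

def e (q : ℕ → G) (m : ℕ) : G := E q 24 m

def el (z : G) (q : ℕ → G) (ρ : ℕ → ZMod 2) (A : ℕ) : G := e q A * zp z (val ρ (A >>> 24))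

theorem e_zero (q : ℕ → G) : e q 0 = 1 := E_nil q 24

theorem e_pow (q : ℕ → G) {i : ℕ} (hi : i < 24) : e q (2 ^ i) = q i := by
  rw [e, E_pow, if_pos hi]

theorem el_lt (z : G) (q : ℕ → G) (ρ : ℕ → ZMod 2) {m : ℕ} (h : m < 2 ^ 24) : el z q ρ m = e q m := by
  rw [el, Nat.shiftRight_eq_div_pow, Nat.div_eq_of_lt h, val_zero, zp_zero, mul_one]

/-- equality modulo `z` -/
def Ap (z x y : G) : Prop := x = y ∨ x = y * z

structure Bas (z : G) (q : ℕ → G) : Prop where
  zz : z * z = 1
  z1 : z ≠ 1
  zq : ∀ i < 24, q i * z = z * q i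
  sq : ∀ i < 24, q i * q i = 1
  cm : ∀ i < 24, ∀ j < 24, q i * q j = q j * q i * zp z (Bf i j)
  cen : ∀ x, x * z = z * x → (∀ i < 24, x * q i = q i * x) → x = 1 ∨ x = z

theorem Ap.refl (z x : G) : Ap z x x := Or.inl rfl

theorem ap_zp (z x : G) (s : ZMod 2) : Ap z (x * zp z s) x := by
  rcases z2 s with rfl | rfl <;> simp [Ap]

theorem Ap.ex {z x y : G} (h : Ap z x y) : ∃ s, x = y * zp z s := by
  rcases h with h | h
  exacts [⟨0, by simp [h]⟩, ⟨1, by simp [h]⟩]

theorem Ap.symm {z x y : G} (hz : z * z = 1) (h : Ap z x y) : Ap z y x := by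
  rcases h with rfl | rfl
  · exact Or.inl rfl
  · exact Or.inr (by rw [mul_assoc, hz, mul_one])

theorem Ap.trans {z x y w : G} (hz : z * z = 1) (h : Ap z x y) (h' : Ap z y w) : Ap z x w := by
  rcases h with rfl | rfl <;> rcases h' with rfl | rfl
  exacts [Or.inl rfl, Or.inr rfl, Or.inr rfl, Or.inl (by rw [mul_assoc, hz, mul_one])]

theorem Ap.mul {z a a' b b' : G} (hz : z * z = 1) (h : Ap z a a') (h' : Ap z b b')
    (c : b' * z = z * b') : Ap z (a * b) (a' * b') := by
  rcases h with rfl | rfl <;> rcases h' with rfl | rfl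
  · exact Or.inl rfl
  · exact Or.inr (mul_assoc _ _ _).symm
  · exact Or.inr (by rw [mul_assoc, ← c, mul_assoc])
  · exact Or.inl (by rw [mul_assoc, ← mul_assoc z, ← c, mul_assoc, hz, mul_one])

theorem Ap.conj {z x y g : G} (hg : g * z = z * g) (h : Ap z x y) :
    Ap z (g * x * g⁻¹) (g * y * g⁻¹) := by
  rcases h with rfl | rfl
  · exact Or.inl rfl
  · refine Or.inr ?_
    have : z * g⁻¹ = g⁻¹ * z := (Commute.inv_left (a := g) (b := z) hg).eq.symm
    rw [mul_assoc, mul_assoc, this]; group

theorem Ap.mul_left {z x y : G} (g : G) (h : Ap z x y) : Ap z (g * x) (g * y) := by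
  rcases h with rfl | rfl
  exacts [Or.inl rfl, Or.inr (mul_assoc _ _ _).symm]

theorem Ap.mem {z x y : G} {H : Subgroup G} (hz : z ∈ H) (h : Ap z x y) (hy : y ∈ H) : x ∈ H := by
  rcases h with rfl | rfl
  exacts [hy, H.mul_mem hy hz]

namespace Bas

variable {z : G} {q : ℕ → G} (B : Bas z q)
include B

theorem E_z {n : ℕ} (hn : n ≤ 24) (m : ℕ) : E q n m * z = z * E q n m :=
  E_ind q (P := fun x => Commute x z) (Commute.one_left z) (fun _ _ => Commute.mul_left)
    fun i hi _ => B.zq i (by omega)

theorem e_z (m : ℕ) : e q m * z = z * e q m := B.E_z le_rfl m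

theorem q_E {k : ℕ} (hk : k < 24) {n : ℕ} (hn : n ≤ 24) (m : ℕ) :
    q k * E q n m = E q n m * q k * zp z (∑ j ∈ range n, bt m j * Bf k j) := by
  induction n with
  | zero => simp [E_zero]
  | succ n ih =>
    rw [E_succ, ← mul_assoc, ih (by omega), sum_range_succ, zp_add B.zz, bt]
    split_ifs with c
    · rw [one_mul, mul_assoc, ← zp_comm (B.zq n (by omega)), ← mul_assoc, mul_assoc _ (q k),
        B.cm k hk n (by omega)]
      simp only [mul_assoc, ← zp_add B.zz, add_comm]
    · simp

theorem E_mul {n : ℕ} (hn : n ≤ 24) (a b : ℕ) : E q n a * E q n b =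
    E q n (a ^^^ b) * zp z (∑ i ∈ range n, bt a i * ∑ j ∈ range i, bt b j * Bf i j) := by
  induction n with
  | zero => simp [E_zero]
  | succ n ih =>
    have hq := B.zq n (by omega)
    rw [E_succ, E_succ, E_succ, sum_range_succ, zp_add B.zz, Nat.testBit_xor]
    generalize hS : (∑ i ∈ range n, bt a i * ∑ j ∈ range i, bt b j * Bf i j) = S at ih ⊢
    have ih' := ih (by omega)
    have h2 := B.q_E (k := n) (by omega) (n := n) (by omega) b
    generalize (∑ j ∈ range n, bt b j * Bf n j) = T at h2 ⊢
    unfold bt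
    cases a.testBit n <;> cases b.testBit n <;> simp only [Bool.false_eq_true, if_false, if_true,
      Bool.xor_false, Bool.xor_true, Bool.not_false, mul_one, zero_mul,
      one_mul, zp_zero, bne_self_eq_false]
    · exact ih'
    · rw [← mul_assoc, ih', mul_assoc, ← zp_comm hq, mul_assoc]
    · rw [mul_assoc, h2, ← mul_assoc, ← mul_assoc, ih', mul_assoc _ _ (q n), ← zp_comm hq]
      simp only [mul_assoc]
    · calc _ = E q n a * (q n * E q n b) * q n := by simp only [mul_assoc]
        _ = E q n a * E q n b * (q n * (zp z T * q n)) := by rw [h2]; simp only [mul_assoc]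
        _ = _ := by rw [← zp_comm hq, ← mul_assoc (q n), B.sq n (by omega), one_mul, ih', mul_assoc]

theorem e_mul (a b : ℕ) : e q a * e q b = e q (a ^^^ b) * zp z (be a b) := by
  have h := B.E_mul le_rfl a b
  rw [cocyc] at h
  exact h

theorem e_mul0 {a b : ℕ} (h : be a b = 0) : e q a * e q b = e q (a ^^^ b) := by
  rw [B.e_mul, h]; simp

theorem e_ap (a b : ℕ) : Ap z (e q a * e q b) (e q (a ^^^ b)) := by
  rw [B.e_mul]; exact ap_zp _ _ _

theorem e_comm (a b : ℕ) : e q a * e q b = e q b * e q a * zp z (bf a b) := by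
  rw [B.e_mul, B.e_mul, Nat.xor_comm b, mul_assoc, ← zp_add B.zz, bf_cast]
  congr 2
  rw [add_comm, add_assoc, z2_add, add_zero]

theorem e_conj (a b : ℕ) : e q a * e q b * (e q a)⁻¹ = e q b * zp z (bf a b) := by
  rw [B.e_comm, mul_assoc _ (e q a), zp_comm (B.e_z a)]; group

theorem e_comm0 {a b : ℕ} (h : bf a b = 0) : e q a * e q b = e q b * e q a := by
  rw [B.e_comm, h]; simp

theorem e_conj1 {a b : ℕ} (h : bf a b = 1) : e q a * e q b * (e q a)⁻¹ = e q b * z := by
  rw [B.e_conj, h]; simp

theorem e_sq {a : ℕ} (h : be a a = 0) : e q a * e q a = 1 := by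
  rw [B.e_mul0 h, Nat.xor_self, e_zero]

theorem bits_of_ap_one {m : ℕ} (h : Ap z (e q m) 1) {i : ℕ} (hi : i < 24) : m.testBit i = false := by
  have hd : du i < 24 := by unfold du; split_ifs <;> omega
  have hdd : du (du i) = i := by unfold du; split_ifs <;> omega
  have h1 := B.e_comm m (2 ^ du i)
  have h2 : e q m * e q (2 ^ du i) = e q (2 ^ du i) * e q m := by
    rcases h with h | h <;> rw [h]
    · simp
    · rw [one_mul, B.e_z]
  rw [h2, bf_pow m hd, hdd, left_eq_mul] at h1
  exact bt_eq_zero.1 (zp_inj B.z1 (h1.trans (zp_zero z).symm))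

theorem bits_of_ap {m n : ℕ} (h : Ap z (e q m) (e q n)) {i : ℕ} (hi : i < 24) :
    m.testBit i = n.testBit i := by
  have h1 : Ap z (e q (m ^^^ n)) 1 := by
    refine ((B.e_ap m n).symm B.zz).trans B.zz ?_
    refine (h.mul B.zz (Ap.refl z _) (B.e_z n)).trans B.zz ?_
    have := B.e_ap n n
    rwa [Nat.xor_self, e_zero] at this
  have := B.bits_of_ap_one h1 hi
  rw [Nat.testBit_xor] at this
  revert this; cases m.testBit i <;> cases n.testBit i <;> simp

theorem eq_of_ap {m n : ℕ} (h : Ap z (e q m) (e q n)) (hm : m < 2 ^ 24) (hn : n < 2 ^ 24) : m = n := by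
  apply Nat.eq_of_testBit_eq
  intro i
  by_cases hi : i < 24
  · exact B.bits_of_ap h hi
  · have : 2 ^ 24 ≤ 2 ^ i := Nat.pow_le_pow_right (by norm_num) (by omega)
    rw [Nat.testBit_lt_two_pow (by omega), Nat.testBit_lt_two_pow (by omega)]

theorem el_z (ρ : ℕ → ZMod 2) (A : ℕ) : el z q ρ A * z = z * el z q ρ A := by
  rw [el, mul_assoc, ← zp_comm rfl, ← mul_assoc, B.e_z, mul_assoc]

theorem el_emul {ρ : ℕ → ZMod 2} (h : ρ 0 = 1) (A C : ℕ) :
    el z q ρ (emul A C) = el z q ρ A * el z q ρ C := by
  have e1 : emul A C = (A ^^^ C) ^^^ (be A C <<< 24) := rfl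
  have e2 : e q (emul A C) = e q (A ^^^ C) := E_congr q fun i hi => by
    rw [e1, Nat.testBit_xor, testBit_shl hi, Bool.xor_false]
  have e3 : val ρ (emul A C >>> 24) = be A C + (val ρ (A >>> 24) + val ρ (C >>> 24)) := by
    rw [e1, Nat.shiftRight_xor_distrib, Nat.shiftRight_xor_distrib, shl_shr (be A C), val_xor,
      val_xor, val_bit h (be_le A C), add_comm]
  unfold el
  rw [e2, e3, zp_add B.zz, zp_add B.zz, ← mul_assoc, ← B.e_mul, mul_assoc (e q A), mul_assoc (e q A),
    ← mul_assoc (e q C), zp_comm (B.e_z C)]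
  simp only [mul_assoc]

end Bas

end H77.YM
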